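import Cfsg.Agent.H122.Cyc.Base
import Cfsg.Agent.H122.OrthMinus
import Cfsg.Agent.H117.OmegaOdd

/-!
# The orthogonal rows of S2351

`rowS_omegaOdd`, `rowS_omegaPlus`, `rowS_omegaMinus`.
-/

set_option autoImplicit false

namespace Cfsg.Agent.H122.Cyc

open Subgroup QuadraticMap Cfsg.Agent.H123.SpNC Cfsg.Agent.H121.Cyc
open Cfsg.Agent.LieClassical

section Orth

variable {F : Type} [Field F] {ι : Type} [Fintype ι] [DecidableEq ι]

/-- the defining characteristic -/
theorem rowS_char [Fintype F] {Q : QuadraticForm F (ι → F)} {Q' : (ι → F) → F} (hQQ : ⇑Q = Q')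
    (hQ : (polarBilin Q).Nondegenerate) (hn : 3 ≤ Fintype.card ι) (hs : ∃ u : ι → F, u ≠ 0 ∧ Q u = 0)
    {w : ℕ} (hw : 3 ≤ w)
    (hemb : ∃ f : Cfsg.isometryGroup F (Cfsg.quadFormPlus w F) →* Cfsg.isometryGroup F Q',
      Function.Injective f) {p : ℕ} [hp : Fact p.Prime] (hp2 : p ≠ 2) {G : Type*} [Group G]
    (e : G ≃* Cfsg.POmega F Q') (hpF : p ∣ Fintype.card F) : RowS p G := by
  subst hQQ
  exact (RowS.of_nc (nc_char hQ hn hs hw hemb hp2 hpF)).congr e.symm

/-- the general row: `b` a bound for the degrees of the simple group `G = PΩ(Q)` -/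
theorem rowS_general [Fintype F] {Q : QuadraticForm F (ι → F)} {Q' : (ι → F) → F} (hQQ : ⇑Q = Q')
    (hQ : (polarBilin Q).Nondegenerate)
    {m : ℕ} (hm : Fintype.card ι ≤ 2 * m + 1) (hn : 3 ≤ Fintype.card ι) (hs : ∃ u : ι → F, u ≠ 0 ∧ Q u = 0)
    {w : ℕ} (hw : 3 ≤ w)
    (hemb : ∃ f : Cfsg.isometryGroup F (Cfsg.quadFormPlus w F) →* Cfsg.isometryGroup F Q',
      Function.Injective f) {p : ℕ} [hp : Fact p.Prime] (hp2 : p ≠ 2) {G : Type*} [Group G] [Finite G]
    [IsSimpleGroup G] (e : G ≃* Cfsg.POmega F Q') {b : ℕ} (hb : MinDeg G b)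
    (h : ¬ p ∣ Fintype.card F → ∀ a, 2 ≤ a →
      (∃ e, 1 ≤ e ∧ e ≤ m ∧ (p ^ a ∣ Fintype.card F ^ e - 1 ∨ p ^ a ∣ Fintype.card F ^ e + 1)) → p ^ a ≤ b + 2) :
    RowS p G := by
  by_cases hpF : p ∣ Fintype.card F
  · exact rowS_char hQQ hQ hn hs hw hemb hp2 e hpF
  · subst hQQ
    refine RowS.of_surjective (f := e.symm.toMonoidHom.comp (QuotientGroup.mk' (Subgroup.center (Cfsg.Omega F (⇑Q)))))
      (e.symm.surjective.comp (QuotientGroup.mk'_surjective _)) hb ?_
    intro x a ha hx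
    exact h hpF a ha (order_omega hQ hp2 hpF hm x (by omega) hx)

/-- the degrees of `Ω(Q)` give those of `G` -/
theorem minDeg_quot {Q : (ι → F) → F} {G : Type*} [Group G] (e : G ≃* Cfsg.POmega F Q) {b : ℕ}
    (h : MinDeg (Cfsg.Omega F Q) b) : MinDeg G b :=
  h.of_surjective (e.symm.toMonoidHom.comp (QuotientGroup.mk' (Subgroup.center (Cfsg.Omega F Q))))
    (e.symm.surjective.comp (QuotientGroup.mk'_surjective _))

theorem minDeg_sl' [Fintype F] {Q : (ι → F) → F} {w : ℕ} (hw : 3 ≤ w)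
    (hemb : ∃ f : Cfsg.isometryGroup F (Cfsg.quadFormPlus w F) →* Cfsg.isometryGroup F Q, Function.Injective f)
    (hex : (w, Fintype.card F) ≠ (3, 2) ∧ (w, Fintype.card F) ≠ (3, 4) ∧ (w, Fintype.card F) ≠ (4, 2) ∧
      (w, Fintype.card F) ≠ (4, 3)) {G : Type*} [Group G] [IsSimpleGroup G] (e : G ≃* Cfsg.POmega F Q) :
    MinDeg G ((Fintype.card F ^ w - Fintype.card F) / (Fintype.card F - 1)) := by
  refine minDeg_sl hw hemb hex
    (e.symm.toMonoidHom.comp (QuotientGroup.mk' (Subgroup.center (Cfsg.Omega F Q)))) ?_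
  intro z hz
  have h1 : QuotientGroup.mk' (Subgroup.center (Cfsg.Omega F Q)) z = 1 := by
    apply e.symm.injective
    rw [map_one]
    exact hz
  rwa [QuotientGroup.mk'_apply, QuotientGroup.eq_one_iff] at h1

end Orth

/-- **the row `PΩ⁻`** -/
theorem rowS_omegaMinus {p : ℕ} [hp : Fact p.Prime] (hp2 : p ≠ 2) {G : Type*} [Group G] [Finite G] [IsSimpleGroup G]
    (h : Cfsg.IsPOmegaMinus G) : RowS p G := by
  obtain ⟨F, _, _, m, a, b, hm, hab, ⟨e⟩⟩ := h
  have hq : 2 ≤ Fintype.card F := Fintype.one_lt_card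
  have hb : MinDeg G ((Fintype.card F ^ m + 1) * (Fintype.card F ^ (m - 1) - Fintype.card F) / (Fintype.card F ^ 2 - 1)) := by
    obtain ⟨k, rfl⟩ : ∃ k, m = k + 4 := ⟨m - 4, by omega⟩
    apply minDeg_quot e
    rw [Cfsg.Agent.H122.OrthMinus.bound_minus hq]
    have hG : Cfsg.Agent.LieClassical.OrthTrans.Good (Cfsg.Agent.LieClassical.OrthForms.minusForm (k + 3) F a b) :=
      Cfsg.Agent.LieClassical.OrthFinite.good_of_finite
        (Cfsg.Agent.LieClassical.OrthForms.nondeg_minusForm (k + 3) F a b hab) (by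
          rw [Module.finrank_fintype_fun_eq_card, Fintype.card_sum, Fintype.card_sum, Fintype.card_fin,
            Fintype.card_fin]; omega)
    obtain ⟨e'⟩ := Cfsg.Agent.H122.OrthPlus.omega_equiv hG
    rw [Cfsg.Agent.LieClassical.OrthForms.coe_minusForm] at e'
    exact (Cfsg.Agent.H122.OrthMinus.minDeg_minus a b hab k).congr e'
  refine rowS_general (OmegaReindex.coe_quadMinus (m - 1) F a b) (OmegaReindex.quadMinus_nondegenerate hab) (m := m)
    ?_ ?_ (OmegaReindex.quadMinus_isotropic (by omega) a b) (w := m - 1) (by omega)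
    (H104.OrthEmb.exists_emb_minus (m - 1) a b) hp2 e hb ?_
  · simp only [Fintype.card_sum, Fintype.card_fin]; omega
  · simp only [Fintype.card_sum, Fintype.card_fin]; omega
  · intro _ c _ hc
    have h1 := pow_le hq hc
    have h2 := ar_minus hq hm
    have h3 : 1 ≤ Fintype.card F ^ m := Nat.one_le_pow _ _ (by omega)
    omega

/-- **the row `PΩ⁺`** -/
theorem rowS_omegaPlus {p : ℕ} [hp : Fact p.Prime] (hp2 : p ≠ 2) {G : Type*} [Group G] [Finite G] [IsSimpleGroup G]
    (h : Cfsg.IsPOmegaPlus G) : RowS p G := by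
  obtain ⟨F, _, _, m, hm, ⟨e⟩⟩ := h
  have hq : 2 ≤ Fintype.card F := Fintype.one_lt_card
  have hcard1 : Fintype.card (Fin m ⊕ Fin m) ≤ 2 * m + 1 := by
    simp only [Fintype.card_sum, Fintype.card_fin]; omega
  have hcard2 : 3 ≤ Fintype.card (Fin m ⊕ Fin m) := by
    simp only [Fintype.card_sum, Fintype.card_fin]; omega
  have hemb : ∃ f : Cfsg.isometryGroup F (Cfsg.quadFormPlus m F) →*
      Cfsg.isometryGroup F (Cfsg.quadFormPlus m F), Function.Injective f := ⟨MonoidHom.id _, fun _ _ h => h⟩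
  by_cases hq4 : 4 ≤ Fintype.card F
  · have hb : MinDeg G ((Fintype.card F ^ m - 1) * (Fintype.card F ^ (m - 1) + Fintype.card F) / (Fintype.card F ^ 2 - 1)) := by
      obtain ⟨k, rfl⟩ : ∃ k, m = k + 3 := ⟨m - 3, by omega⟩
      apply minDeg_quot e
      rw [Cfsg.Agent.H122.OrthPlus.bound_plus hq]
      have hG : Cfsg.Agent.LieClassical.OrthTrans.Good (Cfsg.Agent.LieClassical.OrthForms.plusForm (k + 3) F) :=
        Cfsg.Agent.LieClassical.OrthFinite.good_of_finite
          (Cfsg.Agent.LieClassical.OrthForms.nondeg_plusForm (k + 3) F) (by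
            rw [Module.finrank_fintype_fun_eq_card, Fintype.card_sum, Fintype.card_fin]; omega)
      obtain ⟨e'⟩ := Cfsg.Agent.H122.OrthPlus.omega_equiv hG
      rw [Cfsg.Agent.LieClassical.OrthForms.coe_plusForm] at e'
      exact (Cfsg.Agent.H122.OrthPlus.minDeg_plus hq4 k).congr e'
    refine rowS_general (OmegaReindex.coe_quadPlus m F) OmegaReindex.quadPlus_nondegenerate hcard1 hcard2
      (OmegaReindex.quadPlus_isotropic (by omega)) (w := m) (by omega) hemb hp2 e hb ?_
    intro _ c _ hc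
    have h1 := pow_le hq hc
    have h2 := ar_plus hq (by omega : 3 ≤ m)
    have h3 : 1 ≤ Fintype.card F ^ m := Nat.one_le_pow _ _ (by omega)
    omega
  have hq23 : Fintype.card F = 2 ∨ Fintype.card F = 3 := by omega
  by_cases hm4 : m = 4
  · -- `Ω⁺₈(2)`, `Ω⁺₈(3)`
    subst hm4
    by_cases hp3 : p = 3
    · subst hp3
      rcases hq23 with hq2 | hq3
      · exact (RowS.of_nc (H124.SplitNC.pomega_plus (F := F) (by omega) hp2 (by rw [hq2]; norm_num))).congr e.symm
      · exact rowS_char (OmegaReindex.coe_quadPlus 4 F) OmegaReindex.quadPlus_nondegenerate hcard2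
          (OmegaReindex.quadPlus_isotropic (by omega)) (w := 4) (by omega) hemb hp2 e (by rw [hq3])
    · have hp5 : 5 ≤ p := by
        have h1 := hp.out.two_le
        have h4 : p ≠ 4 := by
          rintro rfl
          exact absurd hp.out (by decide)
        omega
      refine rowS_general (OmegaReindex.coe_quadPlus 4 F) OmegaReindex.quadPlus_nondegenerate hcard1 hcard2
        (OmegaReindex.quadPlus_isotropic (by omega)) (w := 4) (by omega) hemb hp2 e (minDeg_one G) ?_
      intro _ c hc2 hc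
      rcases hq23 with hq2 | hq3
      · rw [hq2] at hc
        exact absurd (ar_small_two hp5 hc2 hc) id
      · rw [hq3] at hc
        exact absurd (ar_small_three hp.out hp5 hc2 hc) id
  · have hb := minDeg_sl' (w := m) (by omega) hemb (by
      refine ⟨?_, ?_, ?_, ?_⟩ <;> rw [Ne, Prod.ext_iff] <;> rintro ⟨h1, -⟩ <;> simp only at h1 <;> omega) e
    refine rowS_general (OmegaReindex.coe_quadPlus m F) OmegaReindex.quadPlus_nondegenerate hcard1 hcard2
      (OmegaReindex.quadPlus_isotropic (by omega)) (w := m) (by omega) hemb hp2 e hb ?_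
    intro _ c hc2 hc
    rcases hq23 with hq2 | hq3
    · rw [hq2] at hc ⊢
      exact ar_two' hp.out hp2 hc2 hm hc
    · rw [hq3] at hc ⊢
      exact ar_three hp.out hp2 hc

/-- **the row `PΩ_{2m+1}`** -/
theorem rowS_omegaOdd {p : ℕ} [hp : Fact p.Prime] (hp2 : p ≠ 2) {G : Type*} [Group G] [Finite G] [IsSimpleGroup G]
    (h : Cfsg.IsPOmegaOdd G) : RowS p G := by
  obtain ⟨F, _, _, m, hm, hodd, ⟨e⟩⟩ := h
  have hq : 2 ≤ Fintype.card F := Fintype.one_lt_card
  have h2 : (2 : F) ≠ 0 := by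
    intro h
    have h1 : ringChar F = 2 := by
      have hd : ringChar F ∣ 2 := (ringChar.spec F 2).1 (by exact_mod_cast h)
      rcases (Nat.dvd_prime Nat.prime_two).1 hd with h1 | h1
      · exact absurd h1 (CharP.ringChar_ne_one)
      · exact h1
    have h4 : Even (Fintype.card F) := by
      have := (FiniteField.even_card_iff_char_two (F := F)).1 h1
      exact Nat.even_iff.2 this
    exact (Nat.not_even_iff_odd.2 hodd) h4
  have hcard1 : Fintype.card (Unit ⊕ (Fin m ⊕ Fin m)) ≤ 2 * m + 1 := by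
    simp only [Fintype.card_sum, Fintype.card_fin, Fintype.card_unit]; omega
  have hcard2 : 3 ≤ Fintype.card (Unit ⊕ (Fin m ⊕ Fin m)) := by
    simp only [Fintype.card_sum, Fintype.card_fin, Fintype.card_unit]; omega
  have hemb := H104.OrthEmb.exists_emb_odd (F := F) m
  by_cases hq5 : 5 ≤ Fintype.card F
  · have hb : MinDeg G (Cfsg.Agent.H117.tt (Fintype.card F) m) := by
      apply minDeg_quot e
      intro M _ _ _ ρ hρ
      exact Cfsg.Agent.H117.omega_bound h2 hq5 hm ρ hρ
    refine rowS_general (OmegaReindex.coe_quadOdd m F) (OmegaReindex.quadOdd_nondegenerate h2) hcard1 hcard2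
      (OmegaReindex.quadOdd_isotropic (by omega)) (w := m) (by omega) hemb hp2 e hb ?_
    intro _ c _ hc
    have h1 := pow_le hq hc
    have h2 := ar_odd hq hm (Cfsg.Agent.H117.tt_mul (Fintype.card F) m (by omega))
    have h3 : 1 ≤ Fintype.card F ^ m := Nat.one_le_pow _ _ (by omega)
    omega
  have hq3 : Fintype.card F = 3 := by
    obtain ⟨r, hr⟩ := hodd
    omega
  by_cases hm4 : m = 4
  · subst hm4
    refine rowS_general (OmegaReindex.coe_quadOdd 4 F) (OmegaReindex.quadOdd_nondegenerate h2) hcard1 hcard2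
      (OmegaReindex.quadOdd_isotropic (by omega)) (w := 4) (by omega) hemb hp2 e (minDeg_one G) ?_
    intro hpF c hc2 hc
    have hp5 : 5 ≤ p := by
      have h1 := hp.out.two_le
      have h4 : p ≠ 4 := by
        rintro rfl
        exact absurd hp.out (by decide)
      have h3 : p ≠ 3 := by
        rintro rfl
        exact hpF (by rw [hq3])
      omega
    rw [hq3] at hc
    exact absurd (ar_small_three hp.out hp5 hc2 hc) id
  · have hb := minDeg_sl' (w := m) (by omega) hemb (by
      rw [hq3]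
      refine ⟨?_, ?_, ?_, ?_⟩ <;> rw [Ne, Prod.ext_iff] <;> rintro ⟨h1, h2⟩ <;> simp only at h1 h2 <;> omega) e
    refine rowS_general (OmegaReindex.coe_quadOdd m F) (OmegaReindex.quadOdd_nondegenerate h2) hcard1 hcard2
      (OmegaReindex.quadOdd_isotropic (by omega)) (w := m) (by omega) hemb hp2 e hb ?_
    intro _ c _ hc
    rw [hq3] at hc ⊢
    exact ar_three hp.out hp2 hc

end Cfsg.Agent.H122.Cyc
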