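import Cfsg.Agent.H121.Cyc.Sq
import Cfsg.Agent.S2337
import Cfsg.Agent.S1163

/-!
# The Suzuki row of S2351
-/

set_option autoImplicit false
set_option linter.unusedSectionVars false

namespace Cfsg.Agent.H122.Cyc

open Module Cfsg.Agent.H121.Cyc
open Cfsg.Agent.LieRecognition.SzMatrix

/-- the degrees of the Suzuki groups -/
theorem minDeg_sz {F : Type*} [Field F] [Fintype F] (m : ℕ) (hm : 1 ≤ m) (hF : Fintype.card F = 2 ^ (2 * m + 1)) :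
    MinDeg (Cfsg.Lie.Sz F (2 ^ (m + 1))) (2 ^ m * (2 ^ (2 * m + 1) - 1)) := by
  intro M _ _ _ ρ hρ
  have hs := Cfsg.Agent.S1162.result hm hF
  have h1 : ρ ((good hF).u 0 1) ≠ 1 := by
    intro h
    have h2 := Cfsg.Agent.H120.injective_of_simple ρ hρ h
    rw [← (good hF).u_zero] at h2
    exact one_ne_zero ((good hF).u_inj h2).2
  have h3 := Cfsg.Agent.S2337.bound (good hF) ρ ⟨1, h1⟩ (2 ^ m) (by
    intro x hx
    rw [hF] at hx
    have h4 : (2 ^ m) ^ 2 ≤ x ^ 2 := by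
      have : 2 ^ (2 * m + 1) = 2 * (2 ^ m) ^ 2 := by ring
      omega
    exact (Nat.pow_le_pow_iff_left (by norm_num)).1 h4)
  rwa [hF] at h3

/-- a power of an odd prime dividing a product of coprime numbers divides one of them -/
theorem pow_dvd_or {p a x y : ℕ} (hp : p.Prime) (hxy : ∀ r : ℕ, r.Prime → r ≠ 2 → r ∣ x → ¬ r ∣ y) (hp2 : p ≠ 2)
    (h : p ^ a ∣ x * y) : p ^ a ∣ x ∨ p ^ a ∣ y := by
  by_cases hx : p ∣ x
  · left
    have h1 := hxy p hp hp2 hx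
    exact ((Nat.Prime.coprime_iff_not_dvd hp).2 h1).pow_left a |>.dvd_of_dvd_mul_right h
  · right
    exact ((Nat.Prime.coprime_iff_not_dvd hp).2 hx).pow_left a |>.dvd_of_dvd_mul_left h

theorem ar_sz {m : ℕ} {p a : ℕ} (hp : p.Prime) (hp2 : p ≠ 2)
    (h : p ^ a ∣ (2 ^ (2 * m + 1)) ^ 2 * (2 ^ (2 * m + 1) - 1) * ((2 ^ (2 * m + 1)) ^ 2 + 1)) :
    p ^ a ≤ 2 ^ (2 * m + 1) + 2 ^ (m + 1) + 1 := by
  have h2 : ¬ p ∣ 2 := fun h => hp2 ((Nat.prime_dvd_prime_iff_eq hp Nat.prime_two).1 h)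
  have hcop : (p ^ a).Coprime ((2 ^ (2 * m + 1)) ^ 2) :=
    (((Nat.Prime.coprime_iff_not_dvd hp).2 h2).pow_left a).pow_right _ |>.pow_right _
  rw [mul_assoc] at h
  replace h := hcop.dvd_of_dvd_mul_left h
  have hq : 1 ≤ 2 ^ (2 * m + 1) := Nat.one_le_two_pow
  obtain ⟨q, hq'⟩ : ∃ q, q = 2 ^ (2 * m + 1) := ⟨_, rfl⟩
  obtain ⟨r, hr'⟩ : ∃ r, r = 2 ^ (m + 1) := ⟨_, rfl⟩
  have hqr : r ^ 2 = 2 * q := by rw [hq', hr']; ring
  have hrq : r ≤ q := by rw [hq', hr']; exact Nat.pow_le_pow_right (by norm_num) (by omega)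
  rw [← hq'] at h hq ⊢
  rw [← hr']
  have hfac : q ^ 2 + 1 = (q - r + 1) * (q + r + 1) := by
    obtain ⟨s, rfl⟩ := Nat.exists_eq_add_of_le hrq
    rw [Nat.add_sub_cancel_left]
    nlinarith
  have hA : ∀ s : ℕ, s.Prime → s ≠ 2 → s ∣ q - 1 → ¬ s ∣ q ^ 2 + 1 := by
    intro s hs hs2 hd1 hd2
    have h4 : s ∣ (q - 1) * (q + 1) := Dvd.dvd.mul_right hd1 _
    have h5 : q ^ 2 + 1 = (q - 1) * (q + 1) + 2 := by
      obtain ⟨t, rfl⟩ := Nat.exists_eq_add_of_le hq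
      rw [Nat.add_sub_cancel_left]
      ring
    rw [h5] at hd2
    have h6 := (Nat.dvd_add_right h4).1 hd2
    exact hs2 ((Nat.prime_dvd_prime_iff_eq hs Nat.prime_two).1 h6)
  have hB : ∀ s : ℕ, s.Prime → s ≠ 2 → s ∣ q - r + 1 → ¬ s ∣ q + r + 1 := by
    intro s hs hs2 hd1 hd2
    have h4 : s ∣ (q + r + 1) - (q - r + 1) := Nat.dvd_sub hd2 hd1
    have h5 : (q + r + 1) - (q - r + 1) = 2 * r := by omega
    rw [h5] at h4
    have h6 : s ∣ 2 ^ (m + 2) := by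
      have : 2 ^ (m + 2) = 2 * r := by rw [hr']; ring
      rwa [this]
    exact hs2 ((Nat.prime_dvd_prime_iff_eq hs Nat.prime_two).1 (hs.dvd_of_dvd_pow h6))
  rcases pow_dvd_or hp hA hp2 h with h1 | h1
  · rcases Nat.eq_zero_or_pos (q - 1) with h0 | h0
    · -- `q = 1`
      have : q = 1 := by omega
      have h3 : 2 ^ (2 * m + 1) = 1 := by rw [← hq', this]
      exact absurd h3 (by
        have : 2 ^ 1 ≤ 2 ^ (2 * m + 1) := Nat.pow_le_pow_right (by norm_num) (by omega)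
        omega)
    · have := Nat.le_of_dvd h0 h1
      omega
  · rw [hfac] at h1
    rcases pow_dvd_or hp hB hp2 h1 with h3 | h3
    · have := Nat.le_of_dvd (by omega) h3
      omega
    · exact Nat.le_of_dvd (by omega) h3

/-- **the row `Sz`** -/
theorem row_sz {p : ℕ} [hp : Fact p.Prime] (hp2 : p ≠ 2) {G : Type*} [Group G] (h : Cfsg.Lie.IsoSuzuki G) :
    Row p G := by
  obtain ⟨F, _, _, m, hm, hF, ⟨e⟩⟩ := h
  refine Row.congr ?_ e.symm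
  refine Row.of_card (minDeg_sz m hm hF) fun P => ?_
  have hc := (Cfsg.Agent.S1163.result hm hF).1
  have hfin : Finite ↥(Cfsg.Lie.Sz F (2 ^ (m + 1))) := inferInstance
  obtain ⟨n, hn⟩ := IsPGroup.iff_card.1 P.2
  have h1 : p ^ n ∣ Nat.card ↥(Cfsg.Lie.Sz F (2 ^ (m + 1))) := by
    rw [← hn]
    exact Subgroup.card_subgroup_dvd_card _
  rw [hc] at h1
  rw [hn]
  refine (ar_sz hp.out hp2 h1).trans ?_
  obtain ⟨k, rfl⟩ : ∃ k, m = k + 1 := ⟨m - 1, by omega⟩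
  obtain ⟨t, ht⟩ : ∃ t, t = 2 ^ k := ⟨_, rfl⟩
  have ht1 : 1 ≤ t := by rw [ht]; exact Nat.one_le_two_pow
  have e1 : 2 ^ (2 * (k + 1) + 1) = 8 * t ^ 2 := by rw [ht]; ring
  have e2 : 2 ^ (k + 1 + 1) = 4 * t := by rw [ht]; ring
  have e3 : 2 ^ (k + 1) = 2 * t := by rw [ht]; ring
  rw [e1, e2, e3]
  obtain ⟨s, hs⟩ : ∃ s, s + 1 = 8 * t ^ 2 := ⟨8 * t ^ 2 - 1, by have : 1 ≤ t ^ 2 := Nat.one_le_pow _ _ ht1; omega⟩
  rw [← hs, Nat.add_sub_cancel]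
  nlinarith

theorem rowS_sz {p : ℕ} [hp : Fact p.Prime] (hp2 : p ≠ 2) {G : Type*} [Group G] (h : Cfsg.Lie.IsoSuzuki G) :
    RowS p G := (row_sz hp2 h).rowS

end Cfsg.Agent.H122.Cyc
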