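import Cfsg.Agent.H121.Cyc.Sq
import Cfsg.Agent.H122.Cyc.SzRow
import Cfsg.Agent.H122.Cyc.TwF4Deg
import Cfsg.Agent.S1068

/-!
# The row `²F₄(q)`, `q ≥ 8`, of S2351
-/

set_option autoImplicit false
set_option linter.unusedSectionVars false

namespace Cfsg.Agent.H122.Cyc

open Module Cfsg.Agent.H121.Cyc

theorem odd_ndvd_two {s : ℕ} (hs : s.Prime) (hs2 : s ≠ 2) : ¬ s ∣ 2 :=
  fun h => hs2 ((Nat.prime_dvd_prime_iff_eq hs Nat.prime_two).1 h)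

theorem odd_ndvd_pow {s k : ℕ} (hs : s.Prime) (hs2 : s ≠ 2) : ¬ s ∣ 2 ^ k :=
  fun h => odd_ndvd_two hs hs2 (hs.dvd_of_dvd_pow h)

/-- the order -/
theorem fac_twf4 {q : ℕ} (hq : 1 ≤ q) :
    (q - 1) * (q ^ 3 + 1) * (q ^ 4 - 1) * (q ^ 6 + 1) =
      (q ^ 2 - 1) ^ 2 * ((q ^ 2 + 1) ^ 2 * ((q ^ 2 - q + 1) * (q ^ 4 - q ^ 2 + 1))) := by
  have h1 : 1 ≤ q ^ 2 := Nat.one_le_pow _ _ hq
  have h2 : 1 ≤ q ^ 4 := Nat.one_le_pow _ _ hq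
  have h3 : q ≤ q ^ 2 := by nlinarith
  have h4 : q ^ 2 ≤ q ^ 4 := Nat.pow_le_pow_right hq (by norm_num)
  zify [hq, h1, h2, h3, h4]
  ring

theorem pow_dvd_or' {p a x y : ℕ} (hp : p.Prime) (hxy : p ∣ x → ¬ p ∣ y) (h : p ^ a ∣ x * y) :
    p ^ a ∣ x ∨ p ^ a ∣ y := by
  by_cases hx : p ∣ x
  · left
    exact ((Nat.Prime.coprime_iff_not_dvd hp).2 (hxy hx)).pow_left a |>.dvd_of_dvd_mul_right h
  · right
    exact ((Nat.Prime.coprime_iff_not_dvd hp).2 hx).pow_left a |>.dvd_of_dvd_mul_left h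

theorem le_aux (x y : ℕ) : x - y + 1 ≤ 2 * x + 2 := by omega

theorem ar_twf4 {p n k : ℕ} (hp : p.Prime) (hp2 : p ≠ 2) (hk : k % 2 = 1) (hk3 : 3 ≤ k)
    (h : p ^ n ∣ (2 ^ k) ^ 12 * (2 ^ k - 1) * ((2 ^ k) ^ 3 + 1) * ((2 ^ k) ^ 4 - 1) * ((2 ^ k) ^ 6 + 1)) :
    p ^ n ≤ 2 * (2 ^ k) ^ 4 + 2 := by
  have hcop : (p ^ n).Coprime ((2 ^ k) ^ 12) :=
    (((Nat.Prime.coprime_iff_not_dvd hp).2 (odd_ndvd_two hp hp2)).pow_left n).pow_right _ |>.pow_right _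
  rw [mul_assoc, mul_assoc, mul_assoc] at h
  replace h := hcop.dvd_of_dvd_mul_left h
  obtain ⟨q, hq'⟩ : ∃ q, q = 2 ^ k := ⟨_, rfl⟩
  have hq8 : 8 ≤ q := by
    rw [hq']
    calc 8 = 2 ^ 3 := by norm_num
      _ ≤ 2 ^ k := Nat.pow_le_pow_right (by norm_num) hk3
  have hpq : ¬ p ∣ q := by rw [hq']; exact odd_ndvd_pow hp hp2
  have hq3 : q % 3 = 2 := by
    obtain ⟨j, rfl⟩ : ∃ j, k = 2 * j + 1 := ⟨k / 2, by omega⟩
    rw [hq', pow_succ, pow_mul, Nat.mul_mod, Nat.pow_mod]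
    norm_num
  rw [← hq'] at h ⊢
  rw [← mul_assoc, ← mul_assoc, fac_twf4 (by omega)] at h
  have hle1 : q ≤ q ^ 2 := by nlinarith
  have hle2 : q ^ 2 ≤ q ^ 4 := Nat.pow_le_pow_right (by omega) (by norm_num)
  have h64 : 8 * q ≤ q ^ 2 := by nlinarith
  have h64' : 64 * q ^ 2 ≤ q ^ 4 := by
    have : q ^ 4 = q ^ 2 * q ^ 2 := by ring
    rw [this]
    exact Nat.mul_le_mul_right _ (by nlinarith)
  -- the identities
  have e1 : q ^ 2 + 1 = (q ^ 2 - 1) + 2 := by omega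
  have e2 : q ^ 4 - q ^ 2 + 1 = (q ^ 2 - 1) * q ^ 2 + 1 := by
    have : q ^ 4 - q ^ 2 = (q ^ 2 - 1) * q ^ 2 := by rw [Nat.sub_mul]; congr 1 <;> ring
    rw [this]
  have e3 : q ^ 2 + 1 = (q ^ 2 - q + 1) + q := by omega
  -- no prime dividing two of them, except `3`
  have hAB : p ∣ q ^ 2 - 1 → ¬ p ∣ q ^ 2 + 1 := by
    intro h1 h2
    rw [e1] at h2
    exact odd_ndvd_two hp hp2 ((Nat.dvd_add_right h1).1 h2)
  have hAD : p ∣ q ^ 2 - 1 → ¬ p ∣ q ^ 4 - q ^ 2 + 1 := by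
    intro h1 h2
    rw [e2] at h2
    exact hp.one_lt.ne' (Nat.dvd_one.1 ((Nat.dvd_add_right (h1.mul_right _)).1 h2))
  have hBC : p ∣ q ^ 2 + 1 → ¬ p ∣ q ^ 2 - q + 1 := by
    intro h1 h2
    rw [e3] at h1
    exact hpq ((Nat.dvd_add_right h2).1 h1)
  have hBD : p ∣ q ^ 2 + 1 → ¬ p ∣ q ^ 4 - q ^ 2 + 1 := by
    intro h1 h2
    have e4 : (q ^ 2 + 1) * (q ^ 2 - 1) + 2 = (q ^ 4 - q ^ 2 + 1) + q ^ 2 := by
      have : 1 ≤ q ^ 2 := by omega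
      zify [this, hle2]
      ring
    have e5 : (q ^ 4 - q ^ 2 + 1) + (q ^ 2 + 1) = (q ^ 2 + 1) * (q ^ 2 - 1) + 3 := by omega
    have h3 : p ∣ (q ^ 2 + 1) * (q ^ 2 - 1) + 3 := by
      rw [← e5]
      exact dvd_add h2 h1
    have h4 : p ∣ 3 := (Nat.dvd_add_right (h1.mul_right _)).1 h3
    have h5 : p = 3 := (Nat.prime_dvd_prime_iff_eq hp Nat.prime_three).1 h4
    subst h5
    have h6 : (q ^ 2 + 1) % 3 = 2 := by
      rw [Nat.add_mod, Nat.pow_mod, hq3]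
    omega
  have hCD : p ∣ q ^ 2 - q + 1 → ¬ p ∣ q ^ 4 - q ^ 2 + 1 := by
    intro h1 h2
    -- `q⁴ - q² + 1 + 2 q = (q² - q + 1)(q² + q - 1) + 2`
    have e4 : (q ^ 4 - q ^ 2 + 1) + 2 * q = (q ^ 2 - q + 1) * (q ^ 2 + q - 1) + 2 := by
      have h8 : 1 ≤ q ^ 2 + q := by omega
      zify [hle2, hle1, h8]
      ring
    -- hence `p ∣ 2 (q - 1)`
    have h3 : p ∣ 2 * (q - 1) := by
      have h4 : (q ^ 4 - q ^ 2 + 1) + 2 * (q - 1) = (q ^ 2 - q + 1) * (q ^ 2 + q - 1) := by omega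
      have h5 : p ∣ (q ^ 4 - q ^ 2 + 1) + 2 * (q - 1) := by rw [h4]; exact h1.mul_right _
      exact (Nat.dvd_add_right h2).1 h5
    have h4 : p ∣ q - 1 := (hp.dvd_mul.1 h3).resolve_left (odd_ndvd_two hp hp2)
    have h5 : q ^ 2 - q + 1 = (q - 1) * q + 1 := by
      have : q ^ 2 - q = (q - 1) * q := by rw [Nat.sub_mul, one_mul, sq]
      rw [this]
    rw [h5] at h1
    exact hp.one_lt.ne' (Nat.dvd_one.1 ((Nat.dvd_add_right (h4.mul_right _)).1 h1))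
  have hBsq : p ∣ (q ^ 2 + 1) ^ 2 → p ∣ q ^ 2 + 1 := hp.dvd_of_dvd_pow
  have hAsq : p ∣ (q ^ 2 - 1) ^ 2 → p ∣ q ^ 2 - 1 := hp.dvd_of_dvd_pow
  have hA2 : (q ^ 2 - 1) ^ 2 ≤ 2 * q ^ 4 + 2 := by
    have h0 : 1 ≤ q ^ 2 := by omega
    have : (q ^ 2 - 1) ^ 2 ≤ (q ^ 2) ^ 2 := Nat.pow_le_pow_left (by omega) 2
    have h9 : (q ^ 2) ^ 2 = q ^ 4 := by ring
    omega
  have hB2 : (q ^ 2 + 1) ^ 2 ≤ 2 * q ^ 4 + 2 := by
    have : (q ^ 2 + 1) ^ 2 = q ^ 4 + 2 * q ^ 2 + 1 := by ring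
    omega
  by_cases hp3 : p = 3
  · subst hp3
    -- `3 ∤ B`, `3 ∤ D`
    have hA : 3 ∣ q ^ 2 - 1 := by
      have h6 : q ^ 2 % 3 = 1 := by rw [Nat.pow_mod, hq3]
      omega
    have hcB : ((3 : ℕ) ^ n).Coprime ((q ^ 2 + 1) ^ 2) :=
      (((Nat.Prime.coprime_iff_not_dvd hp).2 (hAB hA)).pow_left n).pow_right 2
    have hcD : ((3 : ℕ) ^ n).Coprime (q ^ 4 - q ^ 2 + 1) :=
      ((Nat.Prime.coprime_iff_not_dvd hp).2 (hAD hA)).pow_left n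
    have e6 : (q ^ 2 - 1) ^ 2 * ((q ^ 2 + 1) ^ 2 * ((q ^ 2 - q + 1) * (q ^ 4 - q ^ 2 + 1))) =
        ((q + 1) ^ 2 * (q ^ 2 - q + 1)) * ((q - 1) ^ 2) * ((q ^ 2 + 1) ^ 2) * (q ^ 4 - q ^ 2 + 1) := by
      have h0 : q ^ 2 - 1 = (q + 1) * (q - 1) := by
        have h8 : 1 ≤ q ^ 2 := by omega
        have h9 : 1 ≤ q := by omega
        zify [h8, h9]
        ring
      rw [h0]
      ring
    rw [e6] at h
    replace h := hcB.dvd_of_dvd_mul_right (hcD.dvd_of_dvd_mul_right h)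
    have h7 : ¬ 3 ∣ q - 1 := by omega
    replace h := ((((Nat.Prime.coprime_iff_not_dvd hp).2 h7).pow_left n).pow_right 2).dvd_of_dvd_mul_right h
    -- `C = 3 c` with `3 ∤ c`
    obtain ⟨j, hj⟩ : ∃ j, q = 3 * j + 2 := ⟨q / 3, by omega⟩
    have e7 : q ^ 2 - q + 1 = 3 * (3 * j ^ 2 + 3 * j + 1) := by
      have h5 : q ^ 2 - q + 1 = (q - 1) * q + 1 := by
        have : q ^ 2 - q = (q - 1) * q := by rw [Nat.sub_mul, one_mul, sq]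
        rw [this]
      have h6 : q - 1 = 3 * j + 1 := by omega
      rw [h5, h6, hj]
      ring
    have h8 : ¬ 3 ∣ 3 * j ^ 2 + 3 * j + 1 := by omega
    rw [e7, ← mul_assoc] at h
    replace h := (((Nat.Prime.coprime_iff_not_dvd hp).2 h8).pow_left n).dvd_of_dvd_mul_right h
    have h9 := Nat.le_of_dvd (by positivity) h
    refine h9.trans ?_
    have h10 : (q + 1) ^ 2 * 3 = 3 * q ^ 2 + 6 * q + 3 := by ring
    omega
  have hAC : p ∣ q ^ 2 - 1 → ¬ p ∣ q ^ 2 - q + 1 := by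
    intro h1 h2
    have h0 : q ^ 2 - 1 = (q + 1) * (q - 1) := by
      have h8 : 1 ≤ q ^ 2 := by omega
      have h9 : 1 ≤ q := by omega
      zify [h8, h9]
      ring
    rw [h0] at h1
    rcases hp.dvd_mul.1 h1 with h3 | h3
    · -- `C = (q + 1)(q - 2) + 3`
      have h5 : q ^ 2 - q + 1 = (q + 1) * (q - 2) + 3 := by
        have h9 : 2 ≤ q := by omega
        zify [hle1, h9]
        ring
      rw [h5] at h2
      exact hp3 ((Nat.prime_dvd_prime_iff_eq hp Nat.prime_three).1 ((Nat.dvd_add_right (h3.mul_right _)).1 h2))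
    · have h5 : q ^ 2 - q + 1 = (q - 1) * q + 1 := by
        have : q ^ 2 - q = (q - 1) * q := by rw [Nat.sub_mul, one_mul, sq]
        rw [this]
      rw [h5] at h2
      exact hp.one_lt.ne' (Nat.dvd_one.1 ((Nat.dvd_add_right (h3.mul_right _)).1 h2))
  have hX1 : p ∣ (q ^ 2 - 1) ^ 2 → ¬ p ∣ (q ^ 2 + 1) ^ 2 * ((q ^ 2 - q + 1) * (q ^ 4 - q ^ 2 + 1)) := by
    intro h1 h2
    rcases hp.dvd_mul.1 h2 with h3 | h3
    · exact hAB (hAsq h1) (hBsq h3)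
    · rcases hp.dvd_mul.1 h3 with h4 | h4
      · exact hAC (hAsq h1) h4
      · exact hAD (hAsq h1) h4
  have hX2 : p ∣ (q ^ 2 + 1) ^ 2 → ¬ p ∣ (q ^ 2 - q + 1) * (q ^ 4 - q ^ 2 + 1) := by
    intro h1 h3
    rcases hp.dvd_mul.1 h3 with h4 | h4
    · exact hBC (hBsq h1) h4
    · exact hBD (hBsq h1) h4
  have hpos : ∀ x : ℕ, 2 ≤ x → 0 < x := fun x hx => by omega
  rcases pow_dvd_or' hp hX1 h with h1 | h1
  · have h0 : 0 < (q ^ 2 - 1) ^ 2 := Nat.pow_pos (by omega)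
    exact (Nat.le_of_dvd h0 h1).trans hA2
  rcases pow_dvd_or' hp hX2 h1 with h2 | h2
  · exact (Nat.le_of_dvd (by positivity) h2).trans hB2
  rcases pow_dvd_or' hp hCD h2 with h3 | h3
  · exact (Nat.le_of_dvd (Nat.succ_pos _) h3).trans
      ((le_aux _ _).trans (Nat.add_le_add_right (Nat.mul_le_mul_left 2 hle2) 2))
  · exact (Nat.le_of_dvd (Nat.succ_pos _) h3).trans (le_aux _ _)

/-- **the row `²F₄(q)`**, `q ≥ 8` -/
theorem row_twf4 {p : ℕ} [hp : Fact p.Prime] (hp2 : p ≠ 2) {G : Type*} [Group G] [IsSimpleGroup G]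
    (h : Cfsg.Lie.Iso2F4 G) : Row p G := by
  obtain ⟨K, _, _, m, hm, hK, ⟨e⟩⟩ := h
  refine Row.congr ?_ e.symm
  have hs : IsSimpleGroup ↥(Cfsg.Lie.twistedF4 K (2 ^ m)) := e.symm.isSimpleGroup
  refine Row.of_card (TwF4.minDeg_twf4 hm hK hs) fun P => ?_
  have hc := Cfsg.Agent.S1068.result hK
  have hfin : Finite ↥(Cfsg.Lie.twistedF4 K (2 ^ m)) := inferInstance
  obtain ⟨n, hn⟩ := IsPGroup.iff_card.1 P.2
  have h1 : p ^ n ∣ Nat.card ↥(Cfsg.Lie.twistedF4 K (2 ^ m)) := by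
    rw [← hn]
    exact Subgroup.card_subgroup_dvd_card _
  rw [hc] at h1
  rw [hn, hK]
  exact ar_twf4 hp.out hp2 (by omega) (by omega) h1

theorem rowS_twf4 {p : ℕ} [hp : Fact p.Prime] (hp2 : p ≠ 2) {G : Type*} [Group G] [IsSimpleGroup G]
    (h : Cfsg.Lie.Iso2F4 G) : RowS p G := (row_twf4 hp2 h).rowS

end Cfsg.Agent.H122.Cyc
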