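import Mathlib

/-!
# Arithmetic for the orthogonal rows of S2351
-/

set_option autoImplicit false

namespace Cfsg.Agent.H122.Cyc

theorem ar_plus {q m : ℕ} (hq : 2 ≤ q) (hm : 3 ≤ m) :
    q ^ m - 1 ≤ (q ^ m - 1) * (q ^ (m - 1) + q) / (q ^ 2 - 1) := by
  have h2 : 2 ^ 2 ≤ q ^ 2 := Nat.pow_le_pow_left hq 2
  rw [Nat.le_div_iff_mul_le (by omega)]
  apply Nat.mul_le_mul_left
  have h3 : q ^ 2 ≤ q ^ (m - 1) := Nat.pow_le_pow_right (by omega) (by omega)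
  omega

theorem ar_minus {q m : ℕ} (hq : 2 ≤ q) (hm : 4 ≤ m) :
    q ^ m - 1 ≤ (q ^ m + 1) * (q ^ (m - 1) - q) / (q ^ 2 - 1) := by
  have h2 : 2 ^ 2 ≤ q ^ 2 := Nat.pow_le_pow_left hq 2
  rw [Nat.le_div_iff_mul_le (by omega)]
  apply Nat.mul_le_mul (by omega)
  have h3 : q ^ 3 ≤ q ^ (m - 1) := Nat.pow_le_pow_right (by omega) (by omega)
  have h4 : q ^ 2 * 2 ≤ q ^ 3 := by
    rw [pow_succ q 2]
    exact Nat.mul_le_mul_left _ hq
  have h5 : q * 2 ≤ q ^ 2 := by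
    rw [pow_two]
    exact Nat.mul_le_mul_left _ hq
  omega

theorem ar_odd {q n t : ℕ} (hq : 2 ≤ q) (hn : 3 ≤ n) (ht : t * (q ^ 2 - 1) = q ^ (2 * n) - 1) : q ^ n - 1 ≤ t := by
  have h2 : 2 ^ 2 ≤ q ^ 2 := Nat.pow_le_pow_left hq 2
  have h3 : q ^ 2 ≤ q ^ n := Nat.pow_le_pow_right (by omega) (by omega)
  have h4 : (q ^ n - 1) * (q ^ n + 1) = q ^ (2 * n) - 1 := by
    have h5 : (q ^ n + 1) * (q ^ n - 1) = (q ^ n) ^ 2 - 1 ^ 2 := (Nat.sq_sub_sq _ _).symm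
    rw [mul_comm, h5, one_pow, ← pow_mul, mul_comm n 2]
  have h6 : (q ^ n - 1) * (q ^ 2 - 1) ≤ t * (q ^ 2 - 1) := by
    rw [ht, ← h4]
    exact Nat.mul_le_mul_left _ (by omega)
  exact Nat.le_of_mul_le_mul_right h6 (by omega)

/-- `q = 3`: an odd divisor of `3 ^ e ± 1` -/
theorem ar_three {p a m : ℕ} (hp : p.Prime) (hp2 : p ≠ 2)
    (h : ∃ e, 1 ≤ e ∧ e ≤ m ∧ (p ^ a ∣ 3 ^ e - 1 ∨ p ^ a ∣ 3 ^ e + 1)) :
    p ^ a ≤ (3 ^ m - 3) / (3 - 1) + 2 := by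
  obtain ⟨e, he1, hem, h⟩ := h
  have h1 : 3 ^ e ≤ 3 ^ m := Nat.pow_le_pow_right (by omega) hem
  have h2 : 3 ≤ 3 ^ e := Nat.le_self_pow (by omega) 3
  have hcop : Nat.Coprime 2 (p ^ a) :=
    ((Nat.coprime_primes Nat.prime_two hp).2 (Ne.symm hp2)).pow_right a
  have hodd : ∀ n : ℕ, Odd (3 ^ n) := fun n => Odd.pow (by decide)
  have key : 2 * p ^ a ≤ 3 ^ m + 1 := by
    obtain ⟨r, hr⟩ := hodd e
    rcases h with h | h
    · have h3 : 2 * p ^ a ∣ 3 ^ e - 1 := hcop.mul_dvd_of_dvd_of_dvd ⟨r, by omega⟩ h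
      have := Nat.le_of_dvd (by omega) h3
      omega
    · have h3 : 2 * p ^ a ∣ 3 ^ e + 1 := hcop.mul_dvd_of_dvd_of_dvd ⟨r + 1, by omega⟩ h
      have := Nat.le_of_dvd (by omega) h3
      omega
  omega

/-- `p ^ a = 2 ^ m + 1`, `a ≥ 2`, forces `m = 3` -/
theorem ar_two {p a m : ℕ} (hp : p.Prime) (hp2 : p ≠ 2) (ha : 2 ≤ a) (h : p ^ a = 2 ^ m + 1) : m = 3 := by
  have hpodd : Odd p := hp.odd_of_ne_two hp2
  rcases Nat.even_or_odd' a with ⟨c, rfl | rfl⟩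
  · -- `(p ^ c - 1) (p ^ c + 1) = 2 ^ m`
    have h1 : (p ^ c + 1) * (p ^ c - 1) = 2 ^ m := by
      have h2 : (p ^ c + 1) * (p ^ c - 1) = (p ^ c) ^ 2 - 1 ^ 2 := (Nat.sq_sub_sq _ _).symm
      rw [h2, one_pow, ← pow_mul, mul_comm c 2, h, Nat.add_sub_cancel]
    obtain ⟨i, -, hi⟩ := (Nat.dvd_prime_pow Nat.prime_two).1 (Dvd.intro _ h1)
    obtain ⟨j, -, hj⟩ := (Nat.dvd_prime_pow Nat.prime_two).1 (Dvd.intro_left _ h1)
    have h3 : 3 ≤ p ^ c := by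
      have h4 : p ≤ p ^ c := Nat.le_self_pow (by omega) p
      have h5 : 3 ≤ p := by
        have := hp.two_le
        omega
      omega
    have hj1 : j = 1 := by
      by_contra hcon
      have hj0 : j ≠ 0 := by
        rintro rfl
        rw [pow_zero] at hj
        omega
      have hi0 : 2 ≤ i := by
        by_contra hcon2
        have : i = 0 ∨ i = 1 := by omega
        rcases this with rfl | rfl
        · rw [pow_zero] at hi; omega
        · rw [pow_one] at hi; omega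
      have h6 : 4 ∣ 2 ^ i := (pow_dvd_pow 2 hi0 : 2 ^ 2 ∣ 2 ^ i)
      have h7 : 4 ∣ 2 ^ j := (pow_dvd_pow 2 (by omega : 2 ≤ j) : 2 ^ 2 ∣ 2 ^ j)
      rw [← hi] at h6
      rw [← hj] at h7
      omega
    rw [hj1, pow_one] at hj
    have h8 : p ^ c = 3 := by omega
    rw [h8] at h1
    have h9 : 2 ^ m = 2 ^ 3 := by rw [← h1]; norm_num
    exact Nat.pow_right_injective (le_refl 2) h9
  · -- the geometric sum is odd
    exfalso
    have h1 : (p - 1) * ∑ i ∈ Finset.range (2 * c + 1), p ^ i = 2 ^ m := by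
      have h2 := Nat.geomSum_eq hp.two_le (2 * c + 1)
      have h3 : p - 1 ∣ p ^ (2 * c + 1) - 1 := by
        have := Nat.sub_dvd_pow_sub_pow p 1 (2 * c + 1)
        rwa [one_pow] at this
      rw [h2, Nat.mul_div_cancel' h3, h, Nat.add_sub_cancel]
    have hodd : Odd (∑ i ∈ Finset.range (2 * c + 1), p ^ i) := by
      rw [Finset.odd_sum_iff_odd_card_odd]
      have h4 : (Finset.range (2 * c + 1)).filter (fun i => Odd (p ^ i)) = Finset.range (2 * c + 1) := by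
        apply Finset.filter_true_of_mem
        intro i _
        exact hpodd.pow
      rw [h4, Finset.card_range]
      exact ⟨c, rfl⟩
    obtain ⟨j, -, hj⟩ := (Nat.dvd_prime_pow Nat.prime_two).1 (Dvd.intro_left _ h1)
    have hj0 : j = 0 := by
      by_contra hcon
      rw [hj] at hodd
      exact (Nat.not_even_iff_odd.2 hodd) ((Nat.even_pow' hcon).2 even_two)
    rw [hj0, pow_zero] at hj
    have h5 : p ^ 1 ≤ ∑ i ∈ Finset.range (2 * c + 1), p ^ i :=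
      Finset.single_le_sum (f := fun i => p ^ i) (fun _ _ => Nat.zero_le _) (Finset.mem_range.2 (by omega))
    rw [hj, pow_one] at h5
    have := hp.two_le
    omega

/-- `q = 2`, `m ≥ 4` -/
theorem ar_two' {p a m : ℕ} (hp : p.Prime) (hp2 : p ≠ 2) (ha : 2 ≤ a) (hm : 4 ≤ m)
    (h : ∃ e, 1 ≤ e ∧ e ≤ m ∧ (p ^ a ∣ 2 ^ e - 1 ∨ p ^ a ∣ 2 ^ e + 1)) :
    p ^ a ≤ (2 ^ m - 2) / (2 - 1) + 2 := by
  obtain ⟨e, he1, hem, h⟩ := h
  have h2 : 2 ≤ 2 ^ e := Nat.le_self_pow (by omega) 2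
  have h4 : 2 ^ e ≤ 2 ^ m := Nat.pow_le_pow_right (by omega) hem
  rcases h with h | h
  · have := Nat.le_of_dvd (by omega) h
    omega
  · have h5 := Nat.le_of_dvd (by omega) h
    by_cases hem' : e = m
    · subst hem'
      have h6 : p ^ a ≠ 2 ^ e + 1 := fun h7 => by
        have := ar_two hp hp2 ha h7
        omega
      omega
    · have h6 : 2 ^ (e + 1) ≤ 2 ^ m := Nat.pow_le_pow_right (by omega) (by omega)
      rw [pow_succ] at h6
      omega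

/-- no squares of primes `p ≥ 5` divide `2 ^ e ± 1`, `e ≤ 4` -/
theorem ar_small_two {p a : ℕ} (hp5 : 5 ≤ p) (ha : 2 ≤ a)
    (h : ∃ e, 1 ≤ e ∧ e ≤ 4 ∧ (p ^ a ∣ 2 ^ e - 1 ∨ p ^ a ∣ 2 ^ e + 1)) : False := by
  obtain ⟨e, he1, hem, h⟩ := h
  have h1 : 5 ^ 2 ≤ p ^ a := (Nat.pow_le_pow_left hp5 2).trans (Nat.pow_le_pow_right (by omega) ha)
  have h2 : 2 ≤ 2 ^ e := Nat.le_self_pow (by omega) 2
  have h4 : 2 ^ e ≤ 2 ^ 4 := Nat.pow_le_pow_right (by omega) hem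
  rcases h with h | h
  · have := Nat.le_of_dvd (by omega) h
    omega
  · have := Nat.le_of_dvd (by omega) h
    omega

/-- no squares of primes `p ≥ 5` divide `3 ^ e ± 1`, `e ≤ 4` -/
theorem ar_small_three {p a : ℕ} (hp : p.Prime) (hp5 : 5 ≤ p) (ha : 2 ≤ a)
    (h : ∃ e, 1 ≤ e ∧ e ≤ 4 ∧ (p ^ a ∣ 3 ^ e - 1 ∨ p ^ a ∣ 3 ^ e + 1)) : False := by
  obtain ⟨e, he1, hem, h⟩ := h
  have h1 : p ^ 2 ∣ p ^ a := pow_dvd_pow p ha
  have h3 : p ^ 2 ∣ 3 ^ e - 1 ∨ p ^ 2 ∣ 3 ^ e + 1 := h.imp h1.trans h1.trans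
  have h2 : 3 ≤ 3 ^ e := Nat.le_self_pow (by omega) 3
  have h4 : 3 ^ e ≤ 3 ^ 4 := Nat.pow_le_pow_right (by omega) hem
  have hp9 : p ≤ 9 := by
    by_contra hcon
    have h5 : 10 ^ 2 ≤ p ^ 2 := Nat.pow_le_pow_left (by omega) 2
    rcases h3 with h3 | h3
    · have := Nat.le_of_dvd (by omega) h3
      omega
    · have := Nat.le_of_dvd (by omega) h3
      omega
  have hp57 : p = 5 ∨ p = 7 := by
    interval_cases p
    · left; rfl
    · revert hp; decide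
    · right; rfl
    · revert hp; decide
    · revert hp; decide
  rcases hp57 with rfl | rfl <;> interval_cases e <;> revert h3 <;> decide

end Cfsg.Agent.H122.Cyc
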