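import Cfsg.Agent.H121.Cyc.Sq
import Cfsg.Agent.H124.SplitNCO
import Cfsg.Agent.H122.Cyc.Order
import Cfsg.Agent.H122.Cyc.Arith
import Cfsg.Agent.H122.OrthBasePlus
import Cfsg.Agent.S2332

/-!
# The orthogonal rows of S2351: general statements

* `nc_char`: no cyclic Sylow subgroup in the defining characteristic;
* `order_omega`: the orders of the `p`-elements of `Ω(Q)`;
* `minDeg_sl`: the minimal degree of `SL_n(q)` restricted along `SL_w(q) → Ω(Q)`.
-/

set_option autoImplicit false

namespace Cfsg.Agent.H122.Cyc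

open Subgroup QuadraticMap Cfsg.Agent.H123.SpNC Cfsg.Agent.H121.Cyc
open Cfsg.Agent.LieClassical

section SL

variable {F : Type*} [Field F] {n : Type*} [DecidableEq n] [Fintype n]

/-- a transvection in `SL` -/
def tv (i j : n) (hij : i ≠ j) (c : F) : Matrix.SpecialLinearGroup n F :=
  ⟨Matrix.transvection i j c, Matrix.det_transvection_of_ne i j hij c⟩

theorem tv_mul (i j : n) (hij : i ≠ j) (c d : F) : tv i j hij c * tv i j hij d = tv i j hij (c + d) :=
  Subtype.ext (Matrix.transvection_mul_transvection_same i j hij c d)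

/-- as a homomorphism -/
def tvHom (i j : n) (hij : i ≠ j) : Multiplicative F →* Matrix.SpecialLinearGroup n F :=
  MonoidHom.mk' (fun c => tv i j hij c.toAdd) (fun c d => (tv_mul i j hij c.toAdd d.toAdd).symm)

theorem tv_comm {i j k : n} (hij : i ≠ j) (hik : i ≠ k) (c d : F) :
    tv i j hij c * tv i k hik d = tv i k hik d * tv i j hij c := by
  apply Subtype.ext
  show Matrix.transvection i j c * Matrix.transvection i k d = Matrix.transvection i k d * Matrix.transvection i j c
  have e1 : Matrix.single i j c * Matrix.single i k d = (0 : Matrix n n F) :=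
    Matrix.single_mul_single_of_ne _ _ _ _ (Ne.symm hij) _
  have e2 : Matrix.single i k d * Matrix.single i j c = (0 : Matrix n n F) :=
    Matrix.single_mul_single_of_ne _ _ _ _ (Ne.symm hik) _
  simp only [Matrix.transvection, mul_add, add_mul, mul_one, one_mul, e1, e2]
  abel

/-- two independent commuting elements of order `p` in `SL_n`, `n ≥ 3`, in the defining characteristic -/
theorem nc_of_sl {G : Type*} [Group G] [Finite G] {p : ℕ} [hp : Fact p.Prime] (hpF : (p : F) = 0)
    {i j k : n} (hij : i ≠ j) (hik : i ≠ k) (hjk : j ≠ k) (φ : Matrix.SpecialLinearGroup n F →* G)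
    (hφ : ∀ x, x ^ p = 1 → φ x = 1 → x = 1) : NC p G := by
  have hpow : ∀ (i j : n) (hij : i ≠ j), (tv i j hij (1 : F)) ^ p = 1 := by
    intro i j hij
    have h1 : tv i j hij (1 : F) = tvHom i j hij (Multiplicative.ofAdd 1) := rfl
    rw [h1, ← map_pow, ← ofAdd_nsmul, nsmul_eq_mul, hpF, zero_mul, ofAdd_zero, map_one]
  have hne : ∀ (i j : n) (hij : i ≠ j), tv i j hij (1 : F) ≠ 1 := by
    intro i j hij h
    have h1 := congrArg (fun M : Matrix.SpecialLinearGroup n F => (M : Matrix n n F) i j) h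
    have h2 : (Matrix.transvection i j (1 : F)) i j = (1 : Matrix n n F) i j := h1
    rw [Matrix.transvection, Matrix.add_apply, Matrix.one_apply_ne hij, Matrix.single_apply_same, zero_add] at h2
    exact one_ne_zero h2
  refine nc_of_pair (a := φ (tv i j hij 1)) (b := φ (tv i k hik 1)) ?_ ?_ ?_ ?_
  · apply orderOf_eq_prime
    · rw [← map_pow, hpow, map_one]
    · intro h
      exact hne i j hij (hφ _ (hpow i j hij) h)
  · rw [← map_pow, hpow, map_one]
  · rw [← map_mul, ← map_mul, tv_comm]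
  · intro hmem
    obtain ⟨m, hm⟩ := mem_zpowers_iff.1 hmem
    rw [← map_zpow] at hm
    have hcomm : Commute (tv i j hij (1 : F) ^ m) (tv i k hik 1)⁻¹ :=
      (Commute.zpow_left (tv_comm hij hik 1 1) m).inv_right
    have h1 : tv i j hij (1 : F) ^ m * (tv i k hik 1)⁻¹ = 1 := by
      apply hφ
      · rw [hcomm.mul_pow, inv_pow, hpow, inv_one, mul_one, ← zpow_natCast, ← zpow_mul, mul_comm m, zpow_mul,
          zpow_natCast, hpow, one_zpow]
      · rw [map_mul, hm, map_inv, mul_inv_cancel]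
    have h2 : tv i j hij (1 : F) ^ m = tv i k hik 1 := mul_inv_eq_one.1 h1
    have h3 : tv i j hij (1 : F) ^ m = tv i j hij ((m • (1 : F))) := by
      have h4 : tv i j hij (1 : F) = tvHom i j hij (Multiplicative.ofAdd 1) := rfl
      rw [h4, ← map_zpow, ← ofAdd_zsmul]
      rfl
    rw [h3] at h2
    have h4 := congrArg (fun M : Matrix.SpecialLinearGroup n F => (M : Matrix n n F) i k) h2
    have h5 : (Matrix.transvection i j (m • (1 : F))) i k = (Matrix.transvection i k (1 : F)) i k := h4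
    rw [Matrix.transvection, Matrix.transvection, Matrix.add_apply, Matrix.add_apply, Matrix.one_apply_ne hik,
      Matrix.single_apply_same, Matrix.single_apply_of_ne, add_zero, zero_add] at h5
    · exact zero_ne_one h5
    · rintro ⟨-, h⟩
      exact hjk h

end SL

section Orth

variable {F : Type} [Field F] [Fintype F] {ι : Type} [Fintype ι] [DecidableEq ι]

/-- `SL_w → Ω(Q)` -/
theorem exists_slw {Q : (ι → F) → F} {w : ℕ} (hw : 3 ≤ w)
    (hemb : ∃ f : Cfsg.isometryGroup F (Cfsg.quadFormPlus w F) →* Cfsg.isometryGroup F Q, Function.Injective f) :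
    ∃ f : Matrix.SpecialLinearGroup (Fin w) F →* Cfsg.Omega F Q, Function.Injective f := by
  obtain ⟨f, hf⟩ := hemb
  obtain ⟨g, hg⟩ := H104.OrthEmb.exists_emb_sl (F := F) w
  let f' : Matrix.SpecialLinearGroup (Fin w) F →* Cfsg.isometryGroup F Q := f.comp g
  have hmem : ∀ x : Matrix.SpecialLinearGroup (Fin w) F, f' x ∈ Cfsg.Omega F Q := by
    intro x
    have h1 : x ∈ commutator (Matrix.SpecialLinearGroup (Fin w) F) := by
      rw [SLGen.commutator_eq_top (by simpa using hw)]; exact Subgroup.mem_top x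
    have h2 : f' x ∈ (commutator (Matrix.SpecialLinearGroup (Fin w) F)).map f' := ⟨x, h1, rfl⟩
    have h3 : (commutator (Matrix.SpecialLinearGroup (Fin w) F)).map f' ≤
        commutator (Cfsg.isometryGroup F Q) := by
      rw [commutator_def, commutator_def, Subgroup.map_commutator]
      exact Subgroup.commutator_mono le_top le_top
    exact h3 h2
  refine ⟨f'.codRestrict _ hmem, fun x y h => hg (hf ?_)⟩
  exact congrArg Subtype.val h

/-- no cyclic Sylow `p`-subgroup in the defining characteristic -/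
theorem nc_char {Q : QuadraticForm F (ι → F)} (hQ : (polarBilin Q).Nondegenerate)
    (hn : 3 ≤ Fintype.card ι) (hs : ∃ u : ι → F, u ≠ 0 ∧ Q u = 0) {w : ℕ} (hw : 3 ≤ w)
    (hemb : ∃ f : Cfsg.isometryGroup F (Cfsg.quadFormPlus w F) →* Cfsg.isometryGroup F (⇑Q),
      Function.Injective f) {p : ℕ} [hp : Fact p.Prime] (hp2 : p ≠ 2)
    (h : p ∣ Fintype.card F) : NC p (Cfsg.POmega F (⇑Q)) := by
  obtain ⟨f, hf⟩ := exists_slw hw hemb
  have hpF : (p : F) = 0 := by
    have h0 : p = ringChar F := by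
      obtain ⟨n, hn1, hn2⟩ := FiniteField.card F (ringChar F)
      rw [hn2] at h
      exact (Nat.prime_dvd_prime_iff_eq hp.out hn1).1 (hp.out.dvd_of_dvd_pow h)
    rw [h0]
    exact CharP.cast_eq_zero F (ringChar F)
  refine nc_of_sl hpF (i := (⟨0, by omega⟩ : Fin w)) (j := ⟨1, by omega⟩) (k := ⟨2, by omega⟩) (by simp) (by simp)
    (by simp) ((QuotientGroup.mk' (Subgroup.center (Cfsg.Omega F (⇑Q)))).comp f) ?_
  intro x hx h1
  have h2 := H104.OrthEmb.center_free hQ hn hs hp.out hp2 (f x) (by rw [← map_pow, hx, map_one]) h1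
  exact hf (by rw [h2, map_one])

/-- the orders of the `p`-elements of `Ω(Q)` -/
theorem order_omega {Q : QuadraticForm F (ι → F)} (hQ : (polarBilin Q).Nondegenerate)
    {p : ℕ} [hp : Fact p.Prime] (hp2 : p ≠ 2) (hpF : ¬ p ∣ Fintype.card F) {m : ℕ} (hm : Fintype.card ι ≤ 2 * m + 1)
    (x : Cfsg.Omega F (⇑Q)) {a : ℕ} (ha : 1 ≤ a) (hx : orderOf x = p ^ a) :
    ∃ e, 1 ≤ e ∧ e ≤ m ∧ (p ^ a ∣ Fintype.card F ^ e - 1 ∨ p ^ a ∣ Fintype.card F ^ e + 1) := by
  let φ : Cfsg.Omega F (⇑Q) →* Matrix ι ι F :=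
    (H104.OrthEmb.isoHom (⇑Q)).comp (Cfsg.Omega F (⇑Q)).subtype
  have hφ : Function.Injective φ := (H104.OrthEmb.isoHom_injective (⇑Q)).comp Subtype.val_injective
  obtain ⟨e, he1, he2, he3⟩ := exists_dvd (H104.OrthEmb.gram_det hQ) (H104.OrthEmb.gram_inv Q x.1) hp2 hpF ha
    (g := φ x) (by rw [← map_pow, ← hx, pow_orderOf_eq_one, map_one]) (by
      rw [← map_pow]
      intro h
      have h1 : x ^ (p ^ (a - 1)) = 1 := hφ (by rw [h, map_one])
      have h2 : p ^ a ∣ p ^ (a - 1) := by rw [← hx]; exact orderOf_dvd_of_pow_eq_one h1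
      have h3 := (Nat.pow_dvd_pow_iff_le_right hp.out.one_lt).1 h2
      omega)
  exact ⟨e, he1, by omega, he3⟩

/-- the minimal degree of `SL_w(q)` as a bound for a simple quotient of `Ω(Q)` -/
theorem minDeg_sl {Q : (ι → F) → F} {w : ℕ} (hw : 3 ≤ w)
    (hemb : ∃ f : Cfsg.isometryGroup F (Cfsg.quadFormPlus w F) →* Cfsg.isometryGroup F Q, Function.Injective f)
    (hex : (w, Fintype.card F) ≠ (3, 2) ∧ (w, Fintype.card F) ≠ (3, 4) ∧ (w, Fintype.card F) ≠ (4, 2) ∧
      (w, Fintype.card F) ≠ (4, 3)) {G : Type*} [Group G] [IsSimpleGroup G] (f : Cfsg.Omega F Q →* G)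
    (hker : ∀ z, f z = 1 → z ∈ Subgroup.center (Cfsg.Omega F Q)) :
    MinDeg G ((Fintype.card F ^ w - Fintype.card F) / (Fintype.card F - 1)) := by
  classical
  obtain ⟨g, hg⟩ := exists_slw hw hemb
  have h1 : MinDeg (Matrix.SpecialLinearGroup (Fin w) F) ((Fintype.card F ^ w - Fintype.card F) / (Fintype.card F - 1)) :=
    minDeg_of_fin (SLGen.commutator_eq_top (by simpa using hw)) (S2332.result w hw hex).1
  refine MinDeg.of_hom h1 (f.comp g) ?_
  by_contra hcon
  push Not at hcon
  -- `SL_w` would be commutative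
  obtain ⟨i, j, k, hij, hjk, hik⟩ : ∃ i j k : Fin w, i ≠ j ∧ j ≠ k ∧ i ≠ k :=
    ⟨⟨0, by omega⟩, ⟨1, by omega⟩, ⟨2, by omega⟩, by simp, by simp, by simp⟩
  have h2 : tv i j hij (1 : F) * tv j k hjk (1 : F) = tv j k hjk (1 : F) * tv i j hij (1 : F) := by
    apply hg
    rw [map_mul, map_mul]
    exact (Subgroup.mem_center_iff.1 (hker _ (hcon (tv j k hjk (1 : F)))) _)
  have h3 := congrArg (fun M : Matrix.SpecialLinearGroup (Fin w) F => (M : Matrix (Fin w) (Fin w) F) i k) h2
  have h4 : (Matrix.transvection i j (1 : F) * Matrix.transvection j k (1 : F)) i k =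
    (Matrix.transvection j k (1 : F) * Matrix.transvection i j (1 : F)) i k := h3
  have e1 : Matrix.single i j (1 : F) * Matrix.single j k (1 : F) = Matrix.single i k (1 * 1) :=
    Matrix.single_mul_single_same _ _ _ _ _
  have e2 : Matrix.single j k (1 : F) * Matrix.single i j (1 : F) = (0 : Matrix (Fin w) (Fin w) F) :=
    Matrix.single_mul_single_of_ne _ _ _ _ (Ne.symm hik) _
  simp only [Matrix.transvection, mul_add, add_mul, mul_one, one_mul, e1, e2, Matrix.add_apply,
    Matrix.single_apply_same, Matrix.zero_apply] at h4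
  rw [add_zero, Matrix.one_apply_ne hik, zero_add, zero_add] at h4
  have h5 : (1 : F) = 0 := by linear_combination h4
  exact one_ne_zero h5

end Orth

end Cfsg.Agent.H122.Cyc
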