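import Cfsg.Agent.H122.Cyc.Order

/-!
# Orders of the semisimple `p`-elements preserving a hermitian form

`exists_dvd_herm`: `K` a field with `q ^ 2` elements, `B` nondegenerate, `gᴴ B g = B` (`gᴴ` the transpose with entries
`x ^ q`), `g` of order `p ^ a`, `a ≥ 1`, `p` prime to `q`; then `p ^ a ∣ q ^ e - 1`, `e` even, or `p ^ a ∣ q ^ e + 1`, `e` odd,
for some `1 ≤ e ≤ dim`.
-/

set_option autoImplicit false

namespace Cfsg.Agent.H122.Cyc

open Polynomial

/-- the Frobenius `x ↦ x ^ q` of `K`, `|K| = q ^ 2` -/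
theorem exists_frob {K : Type*} [Field K] [Fintype K] {q : ℕ} (hK : Fintype.card K = q ^ 2) :
    ∃ (p n : ℕ) (_ : Fact p.Prime) (_ : CharP K p), q = p ^ n := by
  obtain ⟨p, hc⟩ := CharP.exists K
  obtain ⟨n, hp, hn⟩ := FiniteField.card K p
  have hfp : Fact p.Prime := ⟨hp⟩
  have h1 : q ∣ p ^ (n : ℕ) := by rw [← hn, hK]; exact dvd_pow_self q two_ne_zero
  obtain ⟨m, -, hm⟩ := (Nat.dvd_prime_pow hp).1 h1
  exact ⟨p, m, hfp, hc, hm⟩

/-- the eigenvalues of a unitary matrix are closed under `l ↦ l ^ (- q)` -/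
theorem inv_root_herm {K : Type*} [Field K] [Fintype K] {q : ℕ} (hK : Fintype.card K = q ^ 2) {ι : Type*} [Fintype ι]
    [DecidableEq ι] {B g : Matrix ι ι K} (hB : IsUnit B.det) (hg : (g.map (fun x => x ^ q)).transpose * B * g = B)
    {L : Type*} [Field L] [Algebra K L] {l : L} (hl0 : l ≠ 0)
    (hl : aeval l g.charpoly = 0) : aeval (l ^ q)⁻¹ g.charpoly = 0 := by
  obtain ⟨p, n, _, _, rfl⟩ := exists_frob hK
  have hL : CharP L p := charP_of_injective_algebraMap (algebraMap K L).injective p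
  let φ : L →+* L := iterateFrobenius L p n
  have hφ : ∀ x, φ x = x ^ (p ^ n) := fun x => iterateFrobenius_def p n x
  have hev : ∀ x : L, aeval x g.charpoly = (Matrix.scalar ι x - g.map (algebraMap K L)).det := by
    intro x
    rw [← eval_map_algebraMap, ← Matrix.charpoly_map, Matrix.eval_charpoly]
  rw [hev] at hl ⊢
  set g' := g.map (algebraMap K L)
  set B' := B.map (algebraMap K L)
  have hg' : (g'.map φ).transpose * B' * g' = B' := by
    have h1 := congrArg (fun M : Matrix ι ι K => M.map (algebraMap K L)) hg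
    have h2 : ((g.map (fun x => x ^ (p ^ n))).transpose).map (algebraMap K L) = (g'.map φ).transpose := by
      ext i j
      simp only [Matrix.map_apply, Matrix.transpose_apply, g', hφ, map_pow]
    rw [Matrix.map_mul, Matrix.map_mul, h2] at h1
    exact h1
  have hB' : B'.det ≠ 0 := by
    have h1 : B'.det = algebraMap K L B.det := by
      rw [RingHom.map_det]; rfl
    rw [h1]
    exact (_root_.map_ne_zero _).2 hB.ne_zero
  -- `det (l ^ q - φ g') = 0`
  have hl2 : (Matrix.scalar ι (l ^ (p ^ n)) - g'.map φ).det = 0 := by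
    have h1 : Matrix.scalar ι (l ^ (p ^ n)) - g'.map φ = (Matrix.scalar ι l - g').map φ := by
      ext i j
      rw [Matrix.map_apply, Matrix.sub_apply, Matrix.sub_apply, map_sub, Matrix.map_apply, Matrix.scalar_apply,
        Matrix.scalar_apply]
      by_cases hij : i = j
      · subst hij
        simp only [Matrix.diagonal_apply_eq, hφ]
      · rw [Matrix.diagonal_apply_ne _ hij, Matrix.diagonal_apply_ne _ hij, map_zero]
    rw [h1]
    have h2 : ((Matrix.scalar ι l - g').map φ).det = φ (Matrix.scalar ι l - g').det := (RingHom.map_det φ _).symm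
    rw [h2, hl, map_zero]
  set m := l ^ (p ^ n)
  have hm0 : m ≠ 0 := pow_ne_zero _ hl0
  have h1 : (Matrix.scalar ι m - g'.map φ).transpose * B' * g' = B' * (Matrix.scalar ι m * g' - 1) := by
    rw [Matrix.transpose_sub, sub_mul, sub_mul, hg', mul_sub, mul_one]
    congr 1
    rw [Matrix.scalar_apply, Matrix.diagonal_transpose, ← mul_assoc B']
    congr 1
    exact (Matrix.scalar_commute m (fun r => mul_comm m r) B').eq
  have h2 := congrArg Matrix.det h1
  rw [Matrix.det_mul, Matrix.det_mul, Matrix.det_transpose, hl2, zero_mul, zero_mul, Matrix.det_mul] at h2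
  have h3 : (Matrix.scalar ι m * g' - 1).det = 0 := by
    rcases mul_eq_zero.1 h2.symm with h | h
    · exact absurd h hB'
    · exact h
  have h4 : Matrix.scalar ι m⁻¹ - g' = Matrix.scalar ι (-m⁻¹) * (Matrix.scalar ι m * g' - 1) := by
    rw [mul_sub, mul_one, ← mul_assoc, ← map_mul, neg_mul, inv_mul_cancel₀ hm0, map_neg, map_neg, map_one]
    simp [sub_eq_add_neg, add_comm]
  rw [h4, Matrix.det_mul, h3, mul_zero]

/-- **orders of the `p`-elements preserving a nondegenerate hermitian form** -/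
theorem exists_dvd_herm {K : Type*} [Field K] [Fintype K] {q : ℕ} (hK : Fintype.card K = q ^ 2) {ι : Type*} [Fintype ι]
    [DecidableEq ι] {B g : Matrix ι ι K} (hB : IsUnit B.det) (hg : (g.map (fun x => x ^ q)).transpose * B * g = B)
    {p a : ℕ} [hp : Fact p.Prime] (hpq : ¬ p ∣ q) (ha : 1 ≤ a) (hg1 : g ^ (p ^ a) = 1)
    (hg2 : g ^ (p ^ (a - 1)) ≠ 1) :
    ∃ e, 1 ≤ e ∧ e ≤ Fintype.card ι ∧
      ((Even e ∧ p ^ a ∣ q ^ e - 1) ∨ (Odd e ∧ p ^ a ∣ q ^ e + 1)) := by
  classical
  have hq0 : 1 ≤ q := by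
    rcases Nat.eq_zero_or_pos q with h | h
    · rw [h] at hK
      have := Fintype.card_pos (α := K)
      omega
    · exact h
  have hpF' : (p : K) ≠ 0 := by
    intro h
    apply hpq
    have h1 : ringChar K ∣ p := (ringChar.spec K p).1 h
    have h2 : p = ringChar K := by
      rcases (Nat.dvd_prime hp.out).1 h1 with h3 | h3
      · exact absurd h3 CharP.ringChar_ne_one
      · exact h3.symm
    obtain ⟨n, -, hn⟩ := FiniteField.card K (ringChar K)
    have h3 : p ∣ q ^ 2 := by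
      rw [← hK, hn, h2]
      exact dvd_pow_self _ n.ne_zero
    exact hp.out.dvd_of_dvd_pow h3
  obtain ⟨l, hl, hlo⟩ := exists_root hpF' ha hg1 hg2
  have hpa1 : 1 < p ^ a := Nat.one_lt_pow (by omega) hp.out.one_lt
  have hl0 : l ≠ 0 := by
    rintro rfl
    have h1 : (0 : AlgebraicClosure K) ^ (p ^ a) = 1 := by rw [← hlo]; exact pow_orderOf_eq_one _
    rw [zero_pow (pow_ne_zero _ hp.out.ne_zero)] at h1
    exact zero_ne_one h1
  have hcop : q.Coprime (p ^ a) := (((Nat.Prime.coprime_iff_not_dvd hp.out).2 hpq).symm).pow_right a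
  have hNe : NeZero (p ^ a) := ⟨pow_ne_zero _ hp.out.ne_zero⟩
  let u : (ZMod (p ^ a))ˣ := - ZMod.unitOfCoprime q hcop
  set d := orderOf u with hd
  have hd0 : 0 < d := orderOf_pos u
  -- the sequence `l ^ ((-q) ^ i)`
  let lu : (AlgebraicClosure K)ˣ := Units.mk0 l hl0
  have hlu : orderOf lu = p ^ a := by rw [← hlo, ← orderOf_units, Units.val_mk0]
  let f : ℕ → AlgebraicClosure K := fun i => ((lu ^ ((-(q : ℤ)) ^ i) : (AlgebraicClosure K)ˣ) : AlgebraicClosure K)
  have hf : ∀ i, aeval (f i) g.charpoly = 0 := by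
    intro i
    induction i with
    | zero =>
      have h1 : f 0 = l := by
        show ((lu ^ ((-(q : ℤ)) ^ 0) : (AlgebraicClosure K)ˣ) : AlgebraicClosure K) = l
        rw [pow_zero, zpow_one]
        rfl
      rw [h1]
      exact hl
    | succ i ih =>
      have h1 : f (i + 1) = ((f i) ^ q)⁻¹ := by
        show ((lu ^ ((-(q : ℤ)) ^ (i + 1)) : (AlgebraicClosure K)ˣ) : AlgebraicClosure K) =
          (((lu ^ ((-(q : ℤ)) ^ i) : (AlgebraicClosure K)ˣ) : AlgebraicClosure K) ^ q)⁻¹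
        rw [pow_succ, zpow_mul, zpow_neg, zpow_natCast, Units.val_inv_eq_inv_val, Units.val_pow_eq_pow_val]
      rw [h1]
      exact inv_root_herm hK hB hg (Units.ne_zero _) ih
  have hpow : ∀ i j : ℕ, f i = f j ↔ u ^ i = u ^ j := by
    intro i j
    have h1 : f i = f j ↔ lu ^ ((-(q : ℤ)) ^ i) = lu ^ ((-(q : ℤ)) ^ j) := Units.ext_iff.symm
    rw [h1, zpow_eq_zpow_iff_modEq, hlu, ← ZMod.intCast_eq_intCast_iff, Units.ext_iff, Units.val_pow_eq_pow_val,
      Units.val_pow_eq_pow_val]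
    have h2 : ((u : (ZMod (p ^ a))ˣ) : ZMod (p ^ a)) = ((-(q : ℤ) : ℤ) : ZMod (p ^ a)) := by
      show ((- ZMod.unitOfCoprime q hcop : (ZMod (p ^ a))ˣ) : ZMod (p ^ a)) = _
      rw [Units.val_neg, ZMod.coe_unitOfCoprime, Int.cast_neg, Int.cast_natCast]
    rw [h2, Int.cast_pow, Int.cast_pow]
  have hdd : ((p ^ a : ℕ) : ℤ) ∣ (-(q : ℤ)) ^ d - 1 := by
    have h1 : f d = f 0 := (hpow d 0).2 (by rw [pow_orderOf_eq_one, pow_zero])
    have h2 : lu ^ ((-(q : ℤ)) ^ d) = lu ^ ((-(q : ℤ)) ^ 0) := Units.ext h1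
    rw [zpow_eq_zpow_iff_modEq, hlu, pow_zero] at h2
    exact (Int.modEq_iff_dvd.1 h2.symm)
  refine ⟨d, hd0, ?_, ?_⟩
  · have h1 : (Finset.univ.image fun i : Fin d => f i).card = d := by
      rw [Finset.card_image_of_injective, Finset.card_univ, Fintype.card_fin]
      intro i j hij
      exact Fin.ext (pow_injOn_Iio_orderOf i.2 j.2 ((hpow i j).1 hij))
    have hc0 : g.charpoly.map (algebraMap K (AlgebraicClosure K)) ≠ 0 := (g.charpoly_monic.map _).ne_zero
    have hcard : (g.charpoly.map (algebraMap K (AlgebraicClosure K))).roots.toFinset.card ≤ Fintype.card ι := by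
      refine (Multiset.toFinset_card_le _).trans ((card_roots' _).trans ?_)
      rw [natDegree_map, Matrix.charpoly_natDegree_eq_dim]
    rw [← h1]
    refine (Finset.card_le_card ?_).trans hcard
    intro x hx
    obtain ⟨i, -, rfl⟩ := Finset.mem_image.1 hx
    rw [Multiset.mem_toFinset, mem_roots']
    exact ⟨hc0, by rw [IsRoot.def, eval_map_algebraMap, hf]⟩
  · rcases Nat.even_or_odd d with h | h
    · left
      refine ⟨h, ?_⟩
      rw [h.neg_pow] at hdd
      have h1 : ((q ^ d - 1 : ℕ) : ℤ) = (q : ℤ) ^ d - 1 := by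
        rw [Nat.cast_sub (Nat.one_le_pow _ _ hq0)]; push_cast; ring
      rw [← h1] at hdd
      exact_mod_cast hdd
    · right
      refine ⟨h, ?_⟩
      rw [h.neg_pow] at hdd
      have h1 : ((q ^ d + 1 : ℕ) : ℤ) = -(-(q : ℤ) ^ d - 1) := by push_cast; ring
      have h2 : ((p ^ a : ℕ) : ℤ) ∣ ((q ^ d + 1 : ℕ) : ℤ) := by rw [h1]; exact (dvd_neg.2 hdd)
      exact_mod_cast h2

end Cfsg.Agent.H122.Cyc
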